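import Groth.Agent.L04.RegularPd
import Mathlib.RingTheory.HopfAlgebra.Basic
import Mathlib.RingTheory.Flat.EquationalCriterion
import Mathlib.LinearAlgebra.TensorProduct.Finiteness
import Mathlib.LinearAlgebra.Matrix.NonsingularInverse

/-!
# Affine flat group schemes over regular rings of dimension at most two

Every finite subset of a flat Hopf algebra over a regular ring of dimension at most two lies in
the sub-Hopf-algebra generated by the entries of a matrix corepresentation and the inverse of its
determinant.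
-/

universe u

open TensorProduct CategoryTheory

namespace Groth.L11.HopfUnion

variable {R : Type u} [CommRing R]

theorem projective_ker_of_dim_le_two [IsRegularRing R] (hdim : ringKrullDim R ≤ 2) {n m : ℕ}
    (C : (Fin n → R) →ₗ[R] (Fin m → R)) : Module.Projective R (LinearMap.ker C) := by
  have hQ : HasProjectiveDimensionLE
      (ModuleCat.of R ((Fin m → R) ⧸ LinearMap.range C)) 2 := by
    rw [ModuleCat.hasProjectiveDimensionLE_iff_forall_primeSpectrum]
    intro p
    obtain ⟨d, hd⟩ : ∃ d : ℕ, ringKrullDim (Localization.AtPrime p.asIdeal) = d :=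
      ⟨_, ((isRegularLocalRing_iff _).1 inferInstance).symm⟩
    have hd2 : d ≤ 2 := by
      have h1 := IsLocalization.AtPrime.ringKrullDim_eq_height p.asIdeal
        (Localization.AtPrime p.asIdeal)
      have h2 := Ideal.height_le_ringKrullDim_of_ne_top (I := p.asIdeal) p.isPrime.ne_top
      have : ((d : ℕ) : WithBot ℕ∞) ≤ (2 : ℕ) := by
        rw [← hd, h1]; exact h2.trans (by exact_mod_cast hdim)
      exact_mod_cast this
    haveI : HasProjectiveDimensionLE _ d := Groth.L04.hasProjectiveDimensionLE_of_regularLocal hd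
      ((ModuleCat.of R ((Fin m → R) ⧸ LinearMap.range C)).localizedModule p.1.primeCompl)
    exact hasProjectiveDimensionLT_of_ge _ (d + 1) _ (by omega)
  have hproj : ∀ k : ℕ, CategoryTheory.Projective (ModuleCat.of R (Fin k → R)) := fun k =>
    (IsProjective.iff_projective _).1 inferInstance
  have S1 := LinearMap.shortExact_shortComplexKer (LinearMap.range C).mkQ_surjective
  have hI : HasProjectiveDimensionLE (ModuleCat.of R (LinearMap.range C)) 1 := by
    have h := (S1.hasProjectiveDimensionLT_X₃_iff 1 (hproj m)).1 hQ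
    have e := LinearEquiv.ofEq _ _ (Submodule.ker_mkQ (LinearMap.range C))
    exact @hasProjectiveDimensionLT_of_iso _ _ _ _ _ e.toModuleIso 2 h
  have S2 := LinearMap.shortExact_shortComplexKer C.surjective_rangeRestrict
  have hK : HasProjectiveDimensionLE (ModuleCat.of R (LinearMap.ker C.rangeRestrict)) 0 :=
    (S2.hasProjectiveDimensionLT_X₃_iff 0 (hproj n)).1 hI
  rw [HasProjectiveDimensionLE, ← projective_iff_hasProjectiveDimensionLT_one,
    ← IsProjective.iff_projective] at hK
  exact Module.Projective.of_equiv (LinearEquiv.ofEq _ _ C.ker_rangeRestrict)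

/-- The kernel of a matrix stays generated by the same vectors on a flat module. -/
theorem flat_exact (M : Type*) [AddCommGroup M] [Module R M] [Module.Flat R M] {m n d : ℕ}
    (C : Fin m → Fin n → R) (e : Fin d → Fin n → R)
    (he : ∀ z : Fin n → R, (∀ r, ∑ i, C r i * z i = 0) →
      ∃ w : Fin d → R, ∀ i, z i = ∑ l, w l * e l i)
    (y : Fin n → M) (hy : ∀ r, ∑ i, C r i • y i = 0) :
    ∃ x : Fin d → M, ∀ i, y i = ∑ l, e l i • x l := by
  classical
  let f : (Fin m → R) →ₗ[R] (Fin n → R) := Fintype.linearCombination R C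
  let x : (Fin n → R) →ₗ[R] M := Fintype.linearCombination R y
  have h : x ∘ₗ f = 0 := by
    refine LinearMap.ext fun s => ?_
    simp only [x, f, LinearMap.comp_apply, Fintype.linearCombination_apply, Finset.sum_apply,
      Pi.smul_apply, smul_eq_mul, Finset.sum_smul, LinearMap.zero_apply]
    rw [Finset.sum_comm]
    simp [← smul_smul, ← Finset.smul_sum, hy]
  obtain ⟨k, a, z, hz, ha⟩ := Module.Flat.exists_factorization_of_comp_eq_zero_of_free h
  have hc : ∀ t : Fin k, ∃ w : Fin d → R, ∀ i, a (Pi.single i 1) t = ∑ l, w l * e l i := by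
    intro t
    apply he
    intro r
    have h1 : a (C r) t = 0 := by
      have : f (Pi.single r 1) = C r := by simp [f, Fintype.linearCombination_apply_single]
      rw [← this, ← LinearMap.comp_apply, ha]; simp
    have h2 : C r = ∑ i, C r i • (Pi.single i 1 : Fin n → R) := by
      ext j; simp [Finset.sum_apply, Pi.single_apply]
    rw [h2] at h1
    simpa [map_sum, Finset.sum_apply'] using h1
  choose w hw using hc
  refine ⟨fun l => ∑ t, w t l • z (Finsupp.single t 1), fun i => ?_⟩
  have h3 : y i = x (Pi.single i 1) := by simp [x, Fintype.linearCombination_apply_single]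
  have h4 : a (Pi.single i 1) = ∑ t, a (Pi.single i 1) t • Finsupp.single t (1 : R) := by
    simp [Finsupp.smul_single, Finsupp.univ_sum_single]
  rw [h3, hz, LinearMap.comp_apply, h4, map_sum]
  simp only [hw, Finset.sum_smul, map_sum, map_smul, Finset.smul_sum, smul_smul]
  rw [Finset.sum_comm]
  exact Finset.sum_congr rfl fun l _ => Finset.sum_congr rfl fun t _ => by rw [mul_comm]

/-- Uniqueness of the coefficients normalised by the idempotent of a dual basis. -/
theorem eq_of_sum_eq (M : Type*) [AddCommGroup M] [Module R M] [Module.Flat R M] {n d : ℕ}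
    (e : Fin d → Fin n → R) (P : Fin d → Fin d → R)
    (hP : ∀ l t, ∑ j, P l j * P j t = P l t)
    (hker : ∀ z : Fin d → R, (∀ i, ∑ l, e l i * z l = 0) → ∀ l, ∑ j, P l j * z j = 0)
    (x y : Fin d → M) (hx : ∀ l, ∑ j, P l j • x j = x l) (hy : ∀ l, ∑ j, P l j • y j = y l)
    (h : ∀ i, ∑ l, e l i • x l = ∑ l, e l i • y l) (l : Fin d) : x l = y l := by
  classical
  obtain ⟨w, hw⟩ := flat_exact M (fun i l => e l i)
    (fun t l => (if l = t then 1 else 0) - P l t)
    (fun z hz => ⟨z, fun l => by
      simp [mul_sub, Finset.sum_sub_distrib, mul_comm (z _) (P l _), hker z hz l]⟩)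
    (fun l => x l - y l) (fun i => by simp [smul_sub, Finset.sum_sub_distrib, h i])
  have h1 : ∑ j, P l j • (x j - y j) = x l - y l := by
    simp [smul_sub, Finset.sum_sub_distrib, hx, hy]
  rw [← sub_eq_zero, ← h1]
  simp only [hw, Finset.smul_sum, smul_smul]
  rw [Finset.sum_comm]
  refine Finset.sum_eq_zero fun t _ => ?_
  rw [← Finset.sum_smul]
  simp [mul_sub, Finset.sum_sub_distrib, hP]

variable {A : Type u} [CommRing A] [HopfAlgebra R A]

local notation "Δ" => (CoalgebraStruct.comul (R := R) (A := A))
local notation "ε" => (CoalgebraStruct.counit (R := R) (A := A))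

/-- Finiteness theorem for comodules: a finite subset lies in a finitely generated subcomodule of
the regular corepresentation. -/
theorem exists_fg_subcomodule [IsNoetherianRing R] [Module.Flat R A] (F : Finset A) :
    ∃ V : Submodule R A, V.FG ∧ (↑F : Set A) ⊆ V ∧
      ∀ x ∈ V, Δ x ∈ LinearMap.range (V.subtype.rTensor A) := by
  classical
  choose S hS using fun f : A => TensorProduct.exists_finset (Δ f)
  let M₀ : Submodule R A :=
    Submodule.span R ↑(F.biUnion fun f => (S f).image Prod.fst)
  let g : A →ₗ[R] (A ⧸ M₀) ⊗[R] A := M₀.mkQ.rTensor A ∘ₗ Δ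
  refine ⟨LinearMap.ker g, ?_, ?_, ?_⟩
  · have hle : LinearMap.ker g ≤ M₀ := by
      intro x hx
      have hxg : M₀.mkQ.rTensor A (Δ x) = 0 := hx
      have h := congrArg (fun z => TensorProduct.rid R (A ⧸ M₀) ((ε).lTensor (A ⧸ M₀) z)) hxg
      simp only [map_zero] at h
      rw [← LinearMap.comp_apply (LinearMap.lTensor (A ⧸ M₀) ε), LinearMap.lTensor_comp_rTensor,
        ← LinearMap.rTensor_comp_lTensor, LinearMap.comp_apply,
        Coalgebra.lTensor_counit_comul] at h
      simpa using h
    haveI : Module.Finite R M₀ := Module.Finite.span_of_finite R (Finset.finite_toSet _)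
    haveI : IsNoetherian R M₀ := isNoetherian_of_isNoetherianRing_of_finite R M₀
    exact Submodule.FG.of_le (Module.Finite.iff_fg.1 inferInstance) hle
  · intro f hf
    change M₀.mkQ.rTensor A (Δ f) = 0
    rw [hS f, map_sum]
    refine Finset.sum_eq_zero fun p hp => ?_
    have : p.1 ∈ M₀ := Submodule.subset_span
      (Finset.mem_coe.2 (Finset.mem_biUnion.2 ⟨f, hf, Finset.mem_image.2 ⟨p, hp, rfl⟩⟩))
    simp [(Submodule.Quotient.mk_eq_zero M₀).2 this]
  · intro x hx
    have hxg : M₀.mkQ.rTensor A (Δ x) = 0 := hx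
    apply (Module.Flat.rTensor_exact A (LinearMap.exact_subtype_ker_map g) (Δ x)).1
    have key : ∀ z : A ⊗[R] (A ⊗[R] A), (M₀.mkQ.rTensor A).rTensor A
        ((TensorProduct.assoc R A A A).symm z) =
        (TensorProduct.assoc R (A ⧸ M₀) A A).symm (M₀.mkQ.rTensor (A ⊗[R] A) z) := by
      intro z
      induction z using TensorProduct.induction_on with
      | zero => simp
      | add p q hp hq => simp only [map_add, hp, hq]
      | tmul p q =>
        induction q using TensorProduct.induction_on with
        | zero => simp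
        | add s t hs ht => simp only [tmul_add, map_add, hs, ht]
        | tmul s t => simp
    rw [show g.rTensor A = (M₀.mkQ.rTensor A).rTensor A ∘ₗ (Δ).rTensor A from
      LinearMap.rTensor_comp _ _ _, LinearMap.comp_apply]
    have hco : (Δ).rTensor A (Δ x) = (TensorProduct.assoc R A A A).symm ((Δ).lTensor A (Δ x)) := by
      rw [← Coalgebra.coassoc_apply, LinearEquiv.symm_apply_apply]
    rw [hco, key, ← LinearMap.comp_apply (LinearMap.rTensor (A ⊗[R] A) M₀.mkQ),
      LinearMap.rTensor_comp_lTensor, ← LinearMap.lTensor_comp_rTensor, LinearMap.comp_apply,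
      hxg, map_zero, map_zero]

theorem exists_expansion {V : Submodule R A} {n : ℕ} (v : Fin n → V)
    (hv : Submodule.span R (Set.range v) = ⊤) (z : V ⊗[R] A) :
    ∃ b : Fin n → A, z = ∑ j, v j ⊗ₜ[R] b j := by
  induction z using TensorProduct.induction_on with
  | zero => exact ⟨0, by simp⟩
  | add p q hp hq =>
    obtain ⟨b, rfl⟩ := hp
    obtain ⟨c, rfl⟩ := hq
    exact ⟨b + c, by simp [tmul_add, Finset.sum_add_distrib]⟩
  | tmul x a =>
    obtain ⟨r, hr⟩ := (Submodule.mem_span_range_iff_exists_fun R).1
      (hv ▸ Submodule.mem_top : x ∈ Submodule.span R (Set.range v))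
    exact ⟨fun j => r j • a, by simp [← hr, sum_tmul, smul_tmul]⟩

set_option maxHeartbeats 800000 in
theorem exists_corepresentation [IsRegularRing R] [Module.Flat R A]
    (hdim : ringKrullDim R ≤ 2) (F : Finset A) :
    ∃ (d : ℕ) (a : Matrix (Fin d) (Fin d) A),
      (∀ i j, Δ (a i j) = ∑ l, a i l ⊗ₜ[R] a l j) ∧
      (∀ i j, ε (a i j) = if i = j then 1 else 0) ∧
      ∃ u : A, u * a.det = 1 ∧ (↑F : Set A) ⊆
        Algebra.adjoin R (Set.range (fun p : Fin d × Fin d => a p.1 p.2) ∪ {u}) := by
  classical
  obtain ⟨V, hfg, hFV, hcomod⟩ := exists_fg_subcomodule (R := R) F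
  haveI : Module.Finite R V := Module.Finite.iff_fg.2 hfg
  obtain ⟨n, v, hv⟩ := Module.Finite.exists_fin (R := R) (M := V)
  -- the coaction on the generators
  have hb' : ∀ i, ∃ b : Fin n → A, Δ (v i : A) = ∑ k, (v k : A) ⊗ₜ[R] b k := by
    intro i
    obtain ⟨z, hz⟩ := hcomod _ (v i).2
    obtain ⟨b, rfl⟩ := exists_expansion v hv z
    exact ⟨b, by simp [← hz, map_sum]⟩
  choose b hb using hb'
  -- relations between the generators
  let π : (Fin n → R) →ₗ[R] V := Fintype.linearCombination R v
  obtain ⟨m, T, hT⟩ := Submodule.fg_iff_exists_fin_generating_family.1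
    (IsNoetherian.noetherian (LinearMap.ker π))
  have hTv : ∀ r, ∑ i, T r i • v i = 0 := by
    intro r
    have : T r ∈ LinearMap.ker π := hT ▸ Submodule.subset_span ⟨r, rfl⟩
    simpa [π, Fintype.linearCombination_apply] using this
  let C : (Fin n → R) →ₗ[R] (Fin m → R) :=
    LinearMap.pi fun r => Fintype.linearCombination R (T r)
  have hC : ∀ z : Fin n → R, z ∈ LinearMap.ker C ↔ ∀ r, ∑ i, T r i * z i = 0 := fun z => by
    simp [C, funext_iff, Fintype.linearCombination_apply, mul_comm]
  -- a dual basis of the kernel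
  haveI hKp := projective_ker_of_dim_le_two hdim C
  obtain ⟨d, e₀, he₀⟩ := Module.Finite.exists_fin (R := R) (M := LinearMap.ker C)
  let ρ : (Fin d → R) →ₗ[R] LinearMap.ker C := Fintype.linearCombination R e₀
  have hρ : Function.Surjective ρ := by
    rw [← LinearMap.range_eq_top, Fintype.range_linearCombination, he₀]
  obtain ⟨s, hs⟩ := Module.projective_lifting_property ρ LinearMap.id hρ
  let e : Fin d → Fin n → R := fun l => (e₀ l : Fin n → R)
  have hs' : ∀ (z : LinearMap.ker C) i, ∑ l, s z l * e l i = (z : Fin n → R) i := by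
    intro z i
    have := congrArg (fun t : LinearMap.ker C => (t : Fin n → R) i) (LinearMap.congr_fun hs z)
    simpa [ρ, e, Fintype.linearCombination_apply, Finset.sum_apply] using this
  let P : Fin d → Fin d → R := fun l j => s (e₀ j) l
  have hPsum : ∀ (z : Fin d → R) l, ∑ j, P l j * z j = s (ρ z) l := fun z l => by
    simp [P, ρ, Fintype.linearCombination_apply, map_sum, mul_comm]
  have hP : ∀ l t, ∑ j, P l j * P j t = P l t := fun l t => by
    rw [hPsum (fun j => P j t) l]
    exact congrArg (fun y => s y l) (LinearMap.congr_fun hs (e₀ t))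
  have hker : ∀ z : Fin d → R, (∀ i, ∑ l, e l i * z l = 0) → ∀ l, ∑ j, P l j * z j = 0 := by
    intro z hz l
    have : ρ z = 0 := by
      ext i
      simpa [ρ, e, Fintype.linearCombination_apply, Finset.sum_apply, mul_comm] using hz i
    rw [hPsum, this]; simp
  have hPe : ∀ j i, ∑ l, P l j * e l i = e j i := fun j i => hs' (e₀ j) i
  -- the functionals attached to the dual basis
  have hφ : ∀ z : Fin n → R, z ∈ LinearMap.ker C → ∃ φ : V →ₗ[R] R, ∀ k, φ (v k) = z k := by
    intro z hz
    have hπ : Function.Surjective π := by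
      rw [← LinearMap.range_eq_top, Fintype.range_linearCombination, hv]
    let ℓ : (Fin n → R) →ₗ[R] R := Fintype.linearCombination R z
    have hle : LinearMap.ker π ≤ LinearMap.ker ℓ := by
      rw [← hT, Submodule.span_le]
      rintro _ ⟨r, rfl⟩
      simpa [ℓ, Fintype.linearCombination_apply] using (hC z).1 hz r
    refine ⟨(LinearMap.ker π).liftQ ℓ hle ∘ₗ
      (π.quotKerEquivOfSurjective hπ).symm.toLinearMap, fun k => ?_⟩
    have hk : π (Pi.single k 1) = v k := by simp [π, Fintype.linearCombination_apply_single]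
    rw [← hk]
    simp [LinearMap.quotKerEquivOfSurjective_symm_apply, ℓ,
      Fintype.linearCombination_apply_single]
  choose φ hφ using fun j => hφ (e j) (e₀ j).2
  have hinj : ∀ (B : Type u) [AddCommGroup B] [Module R B] [Module.Flat R B],
      Function.Injective (V.subtype.rTensor B) := fun B _ _ _ =>
    Module.Flat.rTensor_preserves_injective_linearMap _ V.subtype_injective
  -- the coefficients
  let c : Fin d → Fin n → A := fun j i => ∑ k, e j k • b i k
  have hc0 : ∀ j r, ∑ i, T r i • c j i = 0 := by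
    intro j r
    have h0 : ∑ i, T r i • ∑ k, v k ⊗ₜ[R] b i k = 0 := by
      apply hinj A
      have := congrArg (fun y : V => Δ (y : A)) (hTv r)
      simpa [map_sum, hb] using this
    have := congrArg (fun y => TensorProduct.lid R A ((φ j).rTensor A y)) h0
    simpa [map_sum, hφ, c] using this
  choose x hx using fun j => flat_exact A T e
    (fun z hz => ⟨s ⟨z, (hC z).2 hz⟩, fun i => (hs' ⟨z, (hC z).2 hz⟩ i).symm⟩) (c j) (hc0 j)
  let a : Fin d → Fin d → A := fun j l => ∑ q, P l q • x j q
  have haP : ∀ j l, ∑ q, P l q • a j q = a j l := by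
    intro j l
    simp only [a, Finset.smul_sum, smul_smul]
    rw [Finset.sum_comm]
    simp [← Finset.sum_smul, hP]
  have hca : ∀ j i, c j i = ∑ l, e l i • a j l := by
    intro j i
    rw [hx j i]
    simp only [a, Finset.smul_sum, smul_smul]
    rw [Finset.sum_comm]
    refine Finset.sum_congr rfl fun q _ => ?_
    rw [← Finset.sum_smul]
    congr 1
    rw [← hPe q i]
    exact Finset.sum_congr rfl fun l _ => mul_comm _ _
  have hΔa : ∀ j q, Δ (a j q) = ∑ l, a j l ⊗ₜ[R] a l q := by
    intro j
    refine eq_of_sum_eq (A ⊗[R] A) e P hP hker (fun q => Δ (a j q))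
      (fun q => ∑ l, a j l ⊗ₜ[R] a l q) (fun q => ?_) (fun q => ?_) (fun i => ?_)
    · conv_rhs => rw [← haP j q]
      simp [map_sum]
    · simp only [Finset.smul_sum, ← tmul_smul]
      rw [Finset.sum_comm]
      exact Finset.sum_congr rfl fun l _ => by simp only [← tmul_smul, ← tmul_sum, haP]
    · have h0 : (∑ k, v k ⊗ₜ[R] Δ (b i k)) = ∑ k, ∑ t, v t ⊗ₜ[R] (b k t ⊗ₜ[R] b i k) := by
        apply hinj (A ⊗[R] A)
        have hco := Coalgebra.coassoc_apply (R := R) (v i : A)
        simpa [hb, map_sum, sum_tmul, eq_comm] using hco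
      have h1 := congrArg (fun y => TensorProduct.lid R (A ⊗[R] A) ((φ j).rTensor (A ⊗[R] A) y)) h0
      simp only [map_sum, LinearMap.rTensor_tmul, hφ, TensorProduct.lid_tmul] at h1
      calc ∑ q, e q i • Δ (a j q) = Δ (c j i) := by simp [hca, map_sum]
        _ = ∑ k, e j k • Δ (b i k) := by simp [c, map_sum]
        _ = ∑ k, ∑ t, e j t • (b k t ⊗ₜ[R] b i k) := h1
        _ = ∑ k, c j k ⊗ₜ[R] b i k := by simp [c, sum_tmul, smul_tmul']
        _ = ∑ l, a j l ⊗ₜ[R] c l i := by
          simp only [hca j, c, sum_tmul, tmul_sum, ← smul_tmul]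
          exact Finset.sum_comm
        _ = ∑ q, e q i • ∑ l, a j l ⊗ₜ[R] a l q := by
          simp only [hca, tmul_sum, Finset.smul_sum, tmul_smul]
          exact Finset.sum_comm
  have hεa : ∀ j l, ε (a j l) = P l j := by
    intro j
    refine eq_of_sum_eq R e P hP hker (fun l => ε (a j l)) (fun l => P l j) (fun l => ?_)
      (fun l => by simpa using hP l j) (fun i => ?_)
    · conv_rhs => rw [← haP j l]
      simp [map_sum]
    · have h0 : v i = ∑ k, ε (b i k) • v k := by
        apply Subtype.ext
        have := congrArg (TensorProduct.rid R A) (Coalgebra.lTensor_counit_comul (R := R) (v i : A))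
        simpa [hb, map_sum, eq_comm] using this
      have h1 := congrArg (φ j) h0
      simp [map_sum, hφ] at h1
      calc ∑ l, e l i • ε (a j l) = ε (c j i) := by simp [hca, map_sum]
        _ = e j i := by rw [h1]; simp [c, map_sum, mul_comm]
        _ = ∑ l, e l i • P l j := by rw [← hPe j i]; simp [mul_comm]
  have hQa : ∀ j q, ∑ l, P l j • a l q = a j q := fun j q => by
    have := congrArg (TensorProduct.lid R A) (Coalgebra.rTensor_counit_comul (R := R) (a j q))
    simpa [hΔa, hεa, map_sum] using this
  have haQ : ∀ j q, ∑ l, P q l • a j l = a j q := fun j q => haP j q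
  -- the invertible corepresentation
  let N : Fin d → Fin d → R := fun j l => (if j = l then 1 else 0) - P l j
  let a' : Matrix (Fin d) (Fin d) A := fun j l => a j l + N j l • 1
  have hN1 : ∀ j q, ∑ l, N j l • a l q = 0 := fun j q => by
    simp [N, sub_smul, Finset.sum_sub_distrib, hQa]
  have hN2 : ∀ j q, ∑ l, N l q • a j l = 0 := fun j q => by
    simp [N, sub_smul, Finset.sum_sub_distrib, haQ]
  have hN3 : ∀ j q, ∑ l, N j l * N l q = N j q := fun j q => by
    have : ∑ l, P l j * P q l = P q j := by simpa [mul_comm] using hP q j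
    simp [N, sub_mul, mul_sub, Finset.sum_sub_distrib, this]
  have hΔ' : ∀ j q, Δ (a' j q) = ∑ l, a' j l ⊗ₜ[R] a' l q := by
    intro j q
    have h2 : ∑ l, a j l ⊗ₜ[R] (N l q • (1 : A)) = 0 := by
      simp only [← smul_tmul, ← sum_tmul, hN2, zero_tmul]
    have h3 : ∑ l, (N j l • (1 : A)) ⊗ₜ[R] a l q = 0 := by
      simp only [smul_tmul, ← tmul_sum, hN1, tmul_zero]
    have h4 : ∑ l, (N j l • (1 : A)) ⊗ₜ[R] (N l q • (1 : A)) =
        N j q • ((1 : A) ⊗ₜ[R] (1 : A)) := by
      simp only [tmul_smul, ← smul_tmul', smul_smul, ← Finset.sum_smul]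
      rw [← hN3 j q]
      simp [mul_comm]
    simp only [a', add_tmul, tmul_add, Finset.sum_add_distrib, map_add, map_smul, hΔa,
      Bialgebra.comul_one, Algebra.TensorProduct.one_def, h2, h3, h4]
    abel
  have hε' : ∀ j q, ε (a' j q) = if j = q then 1 else 0 := fun j q => by
    simp [a', N, hεa]
  have hleft : Matrix.of (fun j l => HopfAlgebra.antipode R (a' j l)) * a' = 1 := by
    ext j q
    have := LinearMap.congr_fun (HopfAlgebra.mul_antipode_rTensor_comul (R := R) (A := A)) (a' j q)
    simp only [LinearMap.comp_apply, hΔ', map_sum, LinearMap.rTensor_tmul, LinearMap.mul'_apply,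
      hε'] at this
    rw [Matrix.mul_apply]
    simp only [Matrix.of_apply]
    rw [this, Matrix.one_apply]
    split_ifs <;> simp
  obtain ⟨u, hu⟩ := Matrix.isUnit_det_of_left_inverse hleft
  refine ⟨d, a', hΔ', hε', ↑u⁻¹, by rw [← hu, Units.inv_mul], fun f hf => ?_⟩
  let B := Algebra.adjoin R (Set.range (fun p : Fin d × Fin d => a' p.1 p.2) ∪ {(↑u⁻¹ : A)})
  change f ∈ B
  have haB : ∀ j l, a j l ∈ B := fun j l => by
    have h := B.sub_mem (Algebra.subset_adjoin (Or.inl ⟨(j, l), rfl⟩))
      (B.smul_mem B.one_mem (N j l))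
    simpa [a', B] using h
  have hcB : ∀ j i, c j i ∈ B := fun j i => by
    rw [hca]; exact B.sum_mem fun l _ => B.smul_mem (haB j l) _
  have hwK : (fun k => ε (v k : A)) ∈ LinearMap.ker C := (hC _).2 fun r => by
    have := congrArg (fun y : V => ε (y : A)) (hTv r)
    simpa [map_sum] using this
  have hvB : ∀ i, (v i : A) ∈ B := fun i => by
    have h1 : (v i : A) = ∑ k, ε (v k : A) • b i k := by
      have := congrArg (TensorProduct.lid R A) (Coalgebra.rTensor_counit_comul (R := R) (v i : A))
      simpa [hb, map_sum, eq_comm] using this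
    have h2 : (v i : A) = ∑ j, s ⟨_, hwK⟩ j • c j i := by
      rw [h1]
      simp only [c, Finset.smul_sum, smul_smul]
      rw [Finset.sum_comm]
      refine Finset.sum_congr rfl fun k _ => ?_
      rw [← Finset.sum_smul, hs' ⟨_, hwK⟩ k]
    rw [h2]
    exact B.sum_mem fun j _ => B.smul_mem (hcB j i) _
  have : (⟨f, hFV hf⟩ : V) ∈ Submodule.span R (Set.range v) := hv ▸ Submodule.mem_top
  obtain ⟨r, hr⟩ := (Submodule.mem_span_range_iff_exists_fun R).1 this
  have hf' : f = ∑ i, r i • (v i : A) := by
    have := congrArg (Subtype.val) hr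
    simpa using this.symm
  rw [hf']
  exact B.sum_mem fun i _ => B.smul_mem (hvB i) _

end Groth.L11.HopfUnion
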