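import Mathlib.FieldTheory.Galois.Basic
import Mathlib.LinearAlgebra.LinearIndependent.Basic
import Mathlib.LinearAlgebra.TensorProduct.Tower
import Mathlib.LinearAlgebra.TensorProduct.Basis
import Mathlib.RingTheory.TensorProduct.Free
import Mathlib.LinearAlgebra.Dual.Lemmas
import Mathlib.LinearAlgebra.Basis.VectorSpace

set_option autoImplicit false
universe u v w x

open scoped TensorProduct

namespace Groth.L11.Descent

/-- A semilinear action of the Galois group on a `K`-vector space. -/
structure SemiAct (k : Type u) (K : Type v) (V : Type w) [Field k] [Field K] [Algebra k K]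
    [AddCommGroup V] [Module K V] where
  act : (K ≃ₐ[k] K) → V →+ V
  act_one : ∀ v, act 1 v = v
  act_mul : ∀ σ τ v, act (σ * τ) v = act σ (act τ v)
  act_smul : ∀ σ (c : K) v, act σ (c • v) = σ c • act σ v

variable {k : Type u} {K : Type v} [Field k] [Field K] [Algebra k K]
variable {V : Type w} [AddCommGroup V] [Module K V] [Module k V] [IsScalarTower k K V]

/-- The fixed vectors. -/
def SemiAct.fixed (ρ : SemiAct k K V) : Submodule k V where
  carrier := {v | ∀ σ, ρ.act σ v = v}
  zero_mem' := fun σ => map_zero _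
  add_mem' := fun {a b} ha hb σ => by rw [map_add, ha σ, hb σ]
  smul_mem' := fun r v hv σ => by
    rw [← algebraMap_smul K r v, ρ.act_smul, hv σ, AlgEquiv.commutes]

theorem SemiAct.mem_fixed {ρ : SemiAct k K V} {v : V} : v ∈ ρ.fixed ↔ ∀ σ, ρ.act σ v = v := Iff.rfl

variable [FiniteDimensional k K]

theorem SemiAct.span_fixed (ρ : SemiAct k K V) :
    Submodule.span K (ρ.fixed : Set V) = ⊤ := by
  rw [eq_top_iff]
  intro v _
  by_contra hv
  obtain ⟨ℓ, hℓv, hℓ⟩ := Submodule.exists_dual_map_eq_bot_of_notMem hv inferInstance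
  have h0 : ∀ w ∈ ρ.fixed, ℓ w = 0 := fun w hw =>
    (Submodule.eq_bot_iff _).mp hℓ _ (Submodule.mem_map_of_mem (Submodule.subset_span hw))
  let χ : (K ≃ₐ[k] K) → (K →* K) := fun σ => (σ : K →ₐ[k] K)
  have hinj : Function.Injective χ := fun σ τ h => AlgEquiv.ext fun x => DFunLike.congr_fun h x
  have hli : LinearIndependent K fun σ : K ≃ₐ[k] K => (χ σ : K → K) :=
    (linearIndependent_monoidHom K K).comp χ hinj
  have hsum : ∑ σ, ℓ (ρ.act σ v) • (χ σ : K → K) = 0 := by
    funext c
    have hfix : ∑ σ, σ c • ρ.act σ v ∈ ρ.fixed := fun τ => by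
      rw [map_sum]
      simp only [ρ.act_smul, ← ρ.act_mul]
      exact Fintype.sum_equiv (Equiv.mulLeft τ) _ _ (fun σ => rfl)
    have := h0 _ hfix
    simp only [map_sum, map_smul, smul_eq_mul] at this
    simp only [Finset.sum_apply, Pi.smul_apply, smul_eq_mul, Pi.zero_apply]
    rw [← this]
    exact Finset.sum_congr rfl fun σ _ => mul_comm _ _
  have := Fintype.linearIndependent_iff.mp hli _ hsum 1
  rw [ρ.act_one] at this
  exact hℓv this

variable [IsGalois k K]

theorem SemiAct.linearIndependent (ρ : SemiAct k K V) {ι : Type x} (v : ι → V)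
    (hv : ∀ i, v i ∈ ρ.fixed) (h : LinearIndependent k v) : LinearIndependent K v := by
  classical
  rw [linearIndependent_iff']
  intro s
  induction s using Finset.strongInduction with
  | H s ih =>
    intro g hg i hi
    by_contra hgi
    set g' : ι → K := fun j => (g i)⁻¹ * g j with hg'
    have hs0 : ∑ j ∈ s, g' j • v j = 0 := by
      simp only [hg', mul_smul, ← Finset.smul_sum, hg, smul_zero]
    have hgi' : g' i = 1 := inv_mul_cancel₀ hgi
    have hfix : ∀ σ : K ≃ₐ[k] K, ∀ j ∈ s, σ (g' j) = g' j := by
      intro σ j hj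
      by_cases hji : j = i
      · subst hji; rw [hgi', map_one]
      refine sub_eq_zero.mp (ih (s.erase i) (Finset.erase_ssubset hi) (fun j => σ (g' j) - g' j) ?_ j
        (Finset.mem_erase.mpr ⟨hji, hj⟩))
      have h1 : ∑ j ∈ s, (σ (g' j) - g' j) • v j = 0 := by
        have := congrArg (ρ.act σ) hs0
        rw [map_sum, map_zero] at this
        simp only [sub_smul, Finset.sum_sub_distrib, hs0, sub_zero]
        rw [← this]
        exact Finset.sum_congr rfl fun j _ => by rw [ρ.act_smul, hv j σ]
      rw [← Finset.add_sum_erase s _ hi, hgi', map_one, sub_self, zero_smul, zero_add] at h1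
      exact h1
    have hmem : ∀ j ∈ s, ∃ r : k, algebraMap k K r = g' j := fun j hj =>
      IntermediateField.mem_bot.mp ((IsGalois.mem_bot_iff_fixed (g' j)).mpr fun σ => hfix σ j hj)
    choose! r hr using hmem
    have h2 : ∑ j ∈ s, r j • v j = 0 := by
      rw [← hs0]
      exact Finset.sum_congr rfl fun j hj => by rw [← hr j hj, algebraMap_smul]
    have := linearIndependent_iff'.mp h s r h2 i hi
    rw [← hr i hi, this, map_zero] at hgi'
    exact zero_ne_one hgi'

/-- Galois descent for vector spaces. -/
theorem SemiAct.liftBaseChange_bijective (ρ : SemiAct k K V) {W : Type x} [AddCommGroup W] [Module k W]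
    (ι : W →ₗ[k] V) (hι : Function.Injective ι) (hr : LinearMap.range ι = ρ.fixed) :
    Function.Bijective (ι.liftBaseChange K) := by
  classical
  let b := Module.Basis.ofVectorSpace k W
  let b' := Algebra.TensorProduct.basis K b
  have hli : LinearIndependent K (ι ∘ b) :=
    ρ.linearIndependent _ (fun i => by rw [← hr]; exact LinearMap.mem_range_self ι _)
      (b.linearIndependent.map' ι (LinearMap.ker_eq_bot.mpr hι))
  refine ⟨?_, ?_⟩
  · intro x y hxy
    apply b'.repr.injective
    refine linearIndependent_iff_injective_finsuppLinearCombination.mp hli ?_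
    have key : ∀ z, Finsupp.linearCombination K (ι ∘ b) (b'.repr z) = ι.liftBaseChange K z := by
      have : (Finsupp.linearCombination K (ι ∘ b)).comp b'.repr.toLinearMap = ι.liftBaseChange K :=
        b'.ext fun i => by simp [b', Algebra.TensorProduct.basis_apply]
      exact fun z => LinearMap.congr_fun this z
    rw [key, key, hxy]
  · rw [← LinearMap.range_eq_top, eq_top_iff, ← ρ.span_fixed, Submodule.span_le]
    intro v hv
    rw [SetLike.mem_coe, ← hr] at hv
    obtain ⟨w, rfl⟩ := hv
    exact ⟨1 ⊗ₜ w, by simp⟩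

/-- The descended form: `K ⊗ V^G ≃ V`. -/
noncomputable def SemiAct.equiv (ρ : SemiAct k K V) : K ⊗[k] ρ.fixed ≃ₗ[K] V :=
  LinearEquiv.ofBijective _ (ρ.liftBaseChange_bijective ρ.fixed.subtype Subtype.val_injective ρ.fixed.range_subtype)

theorem SemiAct.equiv_tmul (ρ : SemiAct k K V) (c : K) (w : ρ.fixed) :
    ρ.equiv (c ⊗ₜ w) = c • (w : V) := by simp [SemiAct.equiv]

end Groth.L11.Descent
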