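import Groth.Agent.L11.Descent
import Groth.Prelude.Def_GalDesc
import Groth.Prelude.Def_GSzCSA
import Mathlib.LinearAlgebra.BilinearForm.IsometryEquiv
import Mathlib.LinearAlgebra.TensorProduct.Basis
import Mathlib.RingTheory.TensorProduct.Maps

set_option autoImplicit false
universe u v w x y z

open scoped TensorProduct

namespace Groth.L11.GalForms
open Groth.L11.Descent

variable {k : Type u} {K : Type v} [Field k] [Field K] [Algebra k K]

/-- The semilinear action twisted by a cocycle. -/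
def twist {M : Type w} [AddCommGroup M] [Module K M] [DistribMulAction (K ≃ₐ[k] K) M]
    [SMulDistribClass (K ≃ₐ[k] K) K M] (a : GpH1.OneCocycle (K ≃ₐ[k] K) (M ≃ₗ[K] M)) : SemiAct k K M where
  act σ :=
    { toFun := fun x => a σ (σ • x)
      map_zero' := by rw [smul_zero, map_zero]
      map_add' := fun x y => by rw [smul_add, map_add] }
  act_one v := by
    have h : a 1 = 1 := by
      have := a.2 1 1
      rwa [mul_one, one_smul, left_eq_mul] at this
    change a 1 ((1 : K ≃ₐ[k] K) • v) = v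
    rw [h, one_smul]; rfl
  act_mul σ τ v := by
    change a (σ * τ) ((σ * τ) • v) = a σ (σ • a τ (τ • v))
    rw [a.2 σ τ]
    change a σ ((σ • a τ) ((σ * τ) • v)) = _
    rw [GalDesc.conj_smul_apply, mul_smul, inv_smul_smul]
  act_smul σ c v := by
    change a σ (σ • c • v) = σ c • a σ (σ • v)
    rw [smul_distrib_smul, map_smul]; rfl

theorem twist_fixed {M : Type w} [AddCommGroup M] [Module K M] [Module k M] [IsScalarTower k K M]
    [DistribMulAction (K ≃ₐ[k] K) M] [SMulDistribClass (K ≃ₐ[k] K) K M]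
    (a : GpH1.OneCocycle (K ≃ₐ[k] K) (M ≃ₗ[K] M)) : (twist a).fixed = GalDesc.fixedSub a := rfl

section Equivariance
variable {V : Type w} [AddCommGroup V] [Module k V] {W : Type x} [AddCommGroup W] [Module k W]

theorem baseChange_smul (f : V →ₗ[k] W) (σ : K ≃ₐ[k] K) (z : K ⊗[k] V) :
    f.baseChange K (σ • z) = σ • f.baseChange K z := by
  induction z using TensorProduct.induction_on with
  | zero => simp
  | tmul c v => rfl
  | add p q hp hq => simp only [smul_add, map_add, hp, hq]

theorem equivBaseChange_smul (e : V ≃ₗ[k] W) (σ : K ≃ₐ[k] K) (z : K ⊗[k] V) :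
    e.baseChange k K V W (σ • z) = σ • e.baseChange k K V W z := by
  induction z using TensorProduct.induction_on with
  | zero => simp
  | tmul c v => rfl
  | add p q hp hq => simp only [smul_add, map_add, hp, hq]

theorem one_tmul_injective : Function.Injective fun v : V => (1 : K) ⊗ₜ[k] v := fun v w h => by
  classical
  let b := Module.Basis.ofVectorSpace k V
  refine b.repr.injective (Finsupp.ext fun i => (algebraMap k K).injective ?_)
  simpa [TensorProduct.equivFinsuppOfBasisRight_apply_tmul_apply, Algebra.smul_def] using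
    congrArg (fun t => TensorProduct.equivFinsuppOfBasisRight (M := K) b t i) h

theorem exists_of_fixed [FiniteDimensional k K] [IsGalois k K] (z : K ⊗[k] V)
    (hz : ∀ σ : K ≃ₐ[k] K, σ • z = z) : ∃ v : V, z = (1 : K) ⊗ₜ v := by
  classical
  let b := Module.Basis.ofVectorSpace k V
  let co := TensorProduct.equivFinsuppOfBasisRight (M := K) b
  have hco : ∀ (σ : K ≃ₐ[k] K) (t : K ⊗[k] V) i, co (σ • t) i = σ (co t i) := by
    intro σ t i
    induction t using TensorProduct.induction_on with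
    | zero => simp
    | tmul c v => simp [co, TensorProduct.smul_tmul', TensorProduct.equivFinsuppOfBasisRight_apply_tmul_apply]
    | add p q hp hq => simp only [smul_add, map_add, Finsupp.add_apply, hp, hq]
  have : ∀ i, ∃ r : k, algebraMap k K r = co z i := fun i =>
    IntermediateField.mem_bot.mp ((IsGalois.mem_bot_iff_fixed _).mpr fun σ => by rw [← hco, hz])
  choose r hr using this
  refine ⟨∑ i ∈ (co z).support, r i • b i, ?_⟩
  conv_lhs => rw [← co.symm_apply_apply z, TensorProduct.equivFinsuppOfBasisRight_symm_apply]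
  rw [TensorProduct.tmul_sum, Finsupp.sum]
  refine Finset.sum_congr rfl fun i _ => ?_
  rw [← hr, Algebra.algebraMap_eq_smul_one, TensorProduct.smul_tmul]

/-- An equivariant isomorphism descends. -/
theorem exists_descent [FiniteDimensional k K] [IsGalois k K] (E : K ⊗[k] V ≃ₗ[K] K ⊗[k] W)
    (hE : ∀ (σ : K ≃ₐ[k] K) z, E (σ • z) = σ • E z) :
    ∃ e : V ≃ₗ[k] W, ∀ v, E ((1 : K) ⊗ₜ v) = (1 : K) ⊗ₜ e v := by
  have h1 : ∀ v, ∃ w, E ((1 : K) ⊗ₜ v) = (1 : K) ⊗ₜ w := fun v => exists_of_fixed _ fun σ => by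
    rw [← hE, TensorProduct.smul_tmul', smul_one]
  have h2 : ∀ w, ∃ v, E.symm ((1 : K) ⊗ₜ w) = (1 : K) ⊗ₜ v := fun w => exists_of_fixed _ fun σ =>
    E.injective (by rw [hE, E.apply_symm_apply, TensorProduct.smul_tmul', smul_one])
  choose f hf using h1
  choose g hg using h2
  refine ⟨
    { toFun := f
      invFun := g
      map_add' := fun a b => one_tmul_injective (K := K) (k := k) (by
        change (1 : K) ⊗ₜ f (a + b) = (1 : K) ⊗ₜ (f a + f b)
        rw [← hf, TensorProduct.tmul_add, map_add, hf, hf, TensorProduct.tmul_add])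
      map_smul' := fun r a => one_tmul_injective (K := K) (k := k) (by
        change (1 : K) ⊗ₜ f (r • a) = (1 : K) ⊗ₜ (r • f a)
        rw [← hf, TensorProduct.tmul_smul, TensorProduct.tmul_smul, ← algebraMap_smul K r,
          ← algebraMap_smul K r, map_smul, hf])
      left_inv := fun v => one_tmul_injective (K := K) (k := k) (by
        change (1 : K) ⊗ₜ g (f v) = (1 : K) ⊗ₜ v
        rw [← hg, ← hf, E.symm_apply_apply])
      right_inv := fun w => one_tmul_injective (K := K) (k := k) (by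
        change (1 : K) ⊗ₜ f (g w) = (1 : K) ⊗ₜ w
        rw [← hf, ← hg, E.apply_symm_apply]) }, hf⟩

end Equivariance

section Forms
variable {M : Type w} {N : Type x} {N' : Type y}
  [AddCommGroup M] [Module K M] [DistribMulAction (K ≃ₐ[k] K) M] [SMulDistribClass (K ≃ₐ[k] K) K M]
  [AddCommGroup N] [Module K N] [DistribMulAction (K ≃ₐ[k] K) N] [SMulDistribClass (K ≃ₐ[k] K) K N]
  [AddCommGroup N'] [Module K N'] [DistribMulAction (K ≃ₐ[k] K) N'] [SMulDistribClass (K ≃ₐ[k] K) K N']

theorem cocycle_eq_of_equivariant (g : M ≃ₗ[K] N) (g' : M ≃ₗ[K] N') (E : N ≃ₗ[K] N')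
    (hE : ∀ (σ : K ≃ₐ[k] K) z, E (σ • z) = σ • E z) (c : M ≃ₗ[K] M) (hc : ∀ z, g' (c z) = E (g z))
    (σ : K ≃ₐ[k] K) :
    (GalDesc.cocycle k g σ : M ≃ₗ[K] M) = c⁻¹ * GalDesc.cocycle k g' σ * σ • c := by
  refine LinearEquiv.ext fun z => ?_
  change _ = c.symm (GalDesc.cocycle k g' σ ((σ • c) z))
  apply c.injective
  rw [c.apply_symm_apply]
  apply g'.injective
  rw [hc, GalDesc.cocycle_apply, GalDesc.cocycle_apply, g.apply_symm_apply, g'.apply_symm_apply,
    GalDesc.conj_smul_apply, inv_smul_smul, hc, hE]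

theorem equivariant_of_cocycle_eq (g : M ≃ₗ[K] N) (g' : M ≃ₗ[K] N') (c : M ≃ₗ[K] M)
    (h : ∀ σ : K ≃ₐ[k] K, (GalDesc.cocycle k g σ : M ≃ₗ[K] M) = c⁻¹ * GalDesc.cocycle k g' σ * σ • c)
    (σ : K ≃ₐ[k] K) (z : N) : g' (c (g.symm (σ • z))) = σ • g' (c (g.symm z)) := by
  have h1 := LinearEquiv.congr_fun (h σ) (σ • g.symm z)
  change _ = c.symm (GalDesc.cocycle k g' σ ((σ • c) (σ • g.symm z))) at h1
  rw [GalDesc.cocycle_apply, inv_smul_smul, g.apply_symm_apply] at h1
  rw [h1, c.apply_symm_apply, GalDesc.cocycle_apply, g'.apply_symm_apply, GalDesc.conj_smul_apply,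
    inv_smul_smul, inv_smul_smul]

end Forms

/-- The inverse of a trivialisation built from the fixed space intertwines the twisted action. -/
theorem liftBaseChange_smul {V : Type w} [AddCommGroup V] [Module k V] {W : Type x} [AddCommGroup W]
    [Module k W] (a : GpH1.OneCocycle (K ≃ₐ[k] K) (K ⊗[k] V ≃ₗ[K] K ⊗[k] V))
    (ι : W →ₗ[k] K ⊗[k] V) (hW : LinearMap.range ι = GalDesc.fixedSub a) (σ : K ≃ₐ[k] K) (z : K ⊗[k] W) :
    ι.liftBaseChange K (σ • z) = a σ (σ • ι.liftBaseChange K z) := by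
  induction z using TensorProduct.induction_on with
  | zero => simp
  | add p q hp hq => simp only [smul_add, map_add, hp, hq]
  | tmul c w =>
    have hw : ι w ∈ GalDesc.fixedSub a := hW ▸ LinearMap.mem_range_self ι w
    rw [TensorProduct.smul_tmul', LinearMap.liftBaseChange_tmul, LinearMap.liftBaseChange_tmul,
      smul_distrib_smul, map_smul, hw σ]

theorem cocycle_of_fixed {V : Type w} [AddCommGroup V] [Module k V] {W : Type x} [AddCommGroup W]
    [Module k W] (a : GpH1.OneCocycle (K ≃ₐ[k] K) (K ⊗[k] V ≃ₗ[K] K ⊗[k] V))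
    (ι : W →ₗ[k] K ⊗[k] V) (hW : LinearMap.range ι = GalDesc.fixedSub a) (g : K ⊗[k] V ≃ₗ[K] K ⊗[k] W)
    (hg : ∀ z, g.symm z = ι.liftBaseChange K z) : GalDesc.cocycle k g = a := by
  refine GpH1.OneCocycle.ext fun σ => LinearEquiv.ext fun z => ?_
  rw [GalDesc.cocycle_apply, hg, liftBaseChange_smul a ι hW, ← hg, g.symm_apply_apply, smul_inv_smul]

end Groth.L11.GalForms
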