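import Mathlib.RingTheory.Kaehler.Basic

/-! A differential killed by a tensor with nonzero product. -/

set_option autoImplicit false

open scoped TensorProduct

namespace Groth.L11.KaehlerSep

universe u v

theorem D_eq_zero {K : Type u} {E : Type v} [Field K] [Field E] [Algebra K E] (x : E) (w : E ⊗[K] E)
    (hw : w * ((1 : E) ⊗ₜ[K] x - x ⊗ₜ[K] (1 : E)) = 0)
    (hc : Algebra.TensorProduct.lmul' K (S := E) w ≠ 0) : KaehlerDifferential.D K E x = 0 := by
  set c : E := Algebra.TensorProduct.lmul' K (S := E) w with hcdef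
  set δE : E ⊗[K] E := (1 : E) ⊗ₜ[K] x - x ⊗ₜ[K] (1 : E) with hδE
  have hmem : c ⊗ₜ[K] (1 : E) - w ∈ KaehlerDifferential.ideal K E := by
    refine (RingHom.mem_ker).2 ?_
    rw [map_sub, Algebra.TensorProduct.lmul'_apply_tmul, mul_one, ← hcdef, sub_self]
  have hδEI : δE ∈ KaehlerDifferential.ideal K E :=
    KaehlerDifferential.one_smul_sub_smul_one_mem_ideal K x
  have h1 : (KaehlerDifferential.ideal K E).toCotangent
      ((c ⊗ₜ[K] (1 : E)) • ⟨δE, hδEI⟩) = 0 := by
    rw [Ideal.toCotangent_eq_zero, Submodule.coe_smul, smul_eq_mul, pow_two]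
    rw [show c ⊗ₜ[K] (1 : E) * δE = (c ⊗ₜ[K] (1 : E) - w) * δE by rw [sub_mul, hw, sub_zero]]
    exact Ideal.mul_mem_mul hmem hδEI
  rw [map_smul] at h1
  have h0 : c • KaehlerDifferential.D K E x = 0 :=
    Eq.trans (algebraMap_smul (E ⊗[K] E) c (KaehlerDifferential.D K E x)).symm h1
  exact (smul_eq_zero.1 h0).resolve_left hc

end Groth.L11.KaehlerSep
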