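import Mathlib.RingTheory.Jacobson.Semiprimary
import Mathlib.RingTheory.SimpleModule.Basic
import Mathlib.RingTheory.Artinian.Module
import Mathlib.Algebra.Module.Torsion.Basic
import Mathlib.LinearAlgebra.FiniteDimensional.Lemmas
import Mathlib.LinearAlgebra.Pi
import Mathlib.LinearAlgebra.Dimension.Constructions

/-!
A finite module with `W^n ≅ A^n` over a finite-dimensional algebra is cyclic.
-/

set_option autoImplicit false
universe u v w x y

namespace Groth.L11.ModCancel

variable {k : Type u} [Field k] {A : Type v} [Ring A] [Algebra k A]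

/-- The dimension of the space of homomorphisms into `S`. -/
noncomputable def h (k : Type u) [Field k] (A : Type v) [Ring A] (M : Type w) [AddCommGroup M] [Module A M]
    (S : Type x) [AddCommGroup S] [Module A S] [Module k S] [SMulCommClass A k S] : ℕ :=
  Module.finrank k (M →ₗ[A] S)

variable {S : Type x} [AddCommGroup S] [Module A S] [Module k S] [IsScalarTower k A S] [FiniteDimensional k S]

theorem finite_hom {M : Type w} [AddCommGroup M] [Module A M] [Module k M] [IsScalarTower k A M]
    [FiniteDimensional k M] : FiniteDimensional k (M →ₗ[A] S) :=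
  FiniteDimensional.of_injective (V₂ := M →ₗ[k] S)
    { toFun := fun f => f.restrictScalars k
      map_add' := fun _ _ => rfl
      map_smul' := fun _ _ => rfl }
    fun f g hfg => LinearMap.ext fun m => LinearMap.congr_fun hfg m

theorem h_congr {M : Type w} {N : Type y} [AddCommGroup M] [Module A M] [AddCommGroup N] [Module A N]
    (e : M ≃ₗ[A] N) : h k A M S = h k A N S := by
  let E : (M →ₗ[A] S) ≃ₗ[k] (N →ₗ[A] S) :=
    { toFun := fun f => f ∘ₗ e.symm.toLinearMap
      invFun := fun f => f ∘ₗ e.toLinearMap
      map_add' := fun f g => rfl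
      map_smul' := fun r f => rfl
      left_inv := fun f => LinearMap.ext fun m => by simp
      right_inv := fun f => LinearMap.ext fun m => by simp }
  exact E.finrank_eq

theorem h_prod {M : Type w} {N : Type y} [AddCommGroup M] [Module A M] [Module k M] [IsScalarTower k A M]
    [FiniteDimensional k M] [AddCommGroup N] [Module A N] [Module k N] [IsScalarTower k A N] [FiniteDimensional k N] :
    h k A (M × N) S = h k A M S + h k A N S := by
  haveI := finite_hom (k := k) (A := A) (S := S) (M := M)
  haveI := finite_hom (k := k) (A := A) (S := S) (M := N)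
  rw [h, h, h, ← Module.finrank_prod]
  exact ((LinearMap.coprodEquiv k).symm.finrank_eq)

theorem h_pi {ι : Type} [Fintype ι] {M : Type w} [AddCommGroup M] [Module A M] [Module k M]
    [IsScalarTower k A M] [FiniteDimensional k M] :
    h k A (ι → M) S = Fintype.card ι * h k A M S := by
  classical
  haveI := finite_hom (k := k) (A := A) (S := S) (M := M)
  rw [h, ← (LinearMap.lsum A (fun _ : ι => M) k).finrank_eq, Module.finrank_pi_fintype]
  simp [h]

/-- Semisimple modules are determined by the multiplicities of simple modules. -/
theorem nonempty_linearEquiv_of_h_eq : ∀ (n : ℕ) (M : Type w) (N : Type w) [AddCommGroup M] [Module A M]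
    [Module k M] [IsScalarTower k A M] [FiniteDimensional k M] [IsSemisimpleModule A M] [AddCommGroup N]
    [Module A N] [Module k N] [IsScalarTower k A N] [FiniteDimensional k N] [IsSemisimpleModule A N],
    Module.finrank k M = n →
    (∀ (S : Type w) [AddCommGroup S] [Module A S] [Module k S] [IsScalarTower k A S] [FiniteDimensional k S],
      IsSimpleModule A S → h k A M S = h k A N S) → Nonempty (M ≃ₗ[A] N) := by
  intro n
  induction n using Nat.strong_induction_on with
  | _ n ih =>
    intro M N _ _ _ _ _ _ _ _ _ _ _ _ hn hMN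
    haveI : ∀ T : Type w, ∀ [AddCommGroup T] [Module A T] [Module k T] [IsScalarTower k A T]
        [FiniteDimensional k T] (p : Submodule A T), FiniteDimensional k p := fun T _ _ _ _ _ p =>
      Module.Finite.equiv (LinearEquiv.refl k (p.restrictScalars k))
    rcases subsingleton_or_nontrivial M with hM | hM
    · have hN : Subsingleton N := by
        by_contra hN
        haveI := not_subsingleton_iff_nontrivial.mp hN
        obtain ⟨S, hS⟩ := IsSemisimpleModule.exists_simple_submodule A N
        haveI := hS
        obtain ⟨C, hC⟩ := exists_isCompl S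
        have h1 := hMN S hS
        have h0 : h k A M S = 0 := Module.finrank_zero_of_subsingleton
        rw [h0] at h1
        haveI := finite_hom (k := k) (A := A) (S := (S : Type w)) (M := N)
        have hsub : Subsingleton (N →ₗ[A] S) := Module.finrank_zero_iff.mp h1.symm
        haveI : Nontrivial S := IsSimpleModule.nontrivial A S
        obtain ⟨x, hx⟩ := exists_ne (0 : S)
        apply hx
        have h2 := Submodule.projectionOnto_apply_left hC x
        rw [Subsingleton.elim (Submodule.projectionOnto S C hC) 0] at h2
        exact h2.symm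
      exact ⟨LinearEquiv.ofSubsingleton M N⟩
    · obtain ⟨S, hS⟩ := IsSemisimpleModule.exists_simple_submodule A M
      haveI := hS
      haveI : Nontrivial S := IsSimpleModule.nontrivial A S
      obtain ⟨M', hM'⟩ := exists_isCompl S
      have eM := Submodule.prodEquivOfIsCompl S M' hM'
      haveI := finite_hom (k := k) (A := A) (S := (S : Type w)) (M := S)
      haveI := finite_hom (k := k) (A := A) (S := (S : Type w)) (M := N)
      have hpos : 0 < h k A N S := by
        rw [← hMN S hS, ← h_congr eM, h_prod]
        have : 0 < h k A S S := Module.finrank_pos_iff_exists_ne_zero.mpr ⟨LinearMap.id, fun h0 => by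
          obtain ⟨x, hx⟩ := exists_ne (0 : S)
          exact hx (LinearMap.congr_fun h0 x)⟩
        omega
      obtain ⟨f, hf⟩ := Module.finrank_pos_iff_exists_ne_zero.mp hpos
      obtain ⟨C, hC⟩ := exists_isCompl (LinearMap.ker f)
      have eC : C ≃ₗ[A] S := ((LinearMap.ker f).quotientEquivOfIsCompl C hC).symm.trans
        (f.quotKerEquivOfSurjective (LinearMap.surjective_of_ne_zero hf))
      have eN : (S × LinearMap.ker f) ≃ₗ[A] N :=
        (LinearEquiv.prodCongr eC.symm (LinearEquiv.refl A _)).trans (Submodule.prodEquivOfIsCompl C _ hC.symm)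
      have hlt : Module.finrank k M' < n := by
        rw [← hn, ← (eM.restrictScalars k).finrank_eq, Module.finrank_prod]
        have : 0 < Module.finrank k S := Module.finrank_pos
        omega
      obtain ⟨e'⟩ := ih _ hlt M' (LinearMap.ker f) rfl fun T _ _ _ _ _ hT => by
        have h1 := hMN T hT
        rw [← h_congr eM, ← h_congr eN, h_prod, h_prod] at h1
        omega
      exact ⟨eM.symm.trans ((LinearEquiv.prodCongr (LinearEquiv.refl A S) e').trans eN)⟩

/-- If `W^ι ≅ A^ι` for a finite nonempty `ι`, then `W` is cyclic. -/
theorem exists_generator [FiniteDimensional k A] {ι : Type} [Fintype ι] [Nonempty ι] {W : Type v}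
    [AddCommGroup W] [Module A W] [Module k W] [IsScalarTower k A W] [FiniteDimensional k W]
    (e : (ι → W) ≃ₗ[A] (ι → A)) : ∃ w : W, Submodule.span A {w} = ⊤ := by
  haveI : IsArtinianRing A := IsArtinianRing.of_finite k A
  set J := Ring.jacobson A
  have hJ : IsNilpotent J := IsSemiprimaryRing.isNilpotent
  let JW : Submodule A W := J • ⊤
  let JA : Submodule A A := J • ⊤
  have hss : ∀ (M : Type v) [AddCommGroup M] [Module A M],
      IsSemisimpleModule A (M ⧸ (J • ⊤ : Submodule A M)) := by
    intro M _ _
    have hM : Module.IsTorsionBySet A (M ⧸ (J • ⊤ : Submodule A M)) J :=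
      (Module.isTorsionBySet_quotient_iff _ _).mpr fun m i hi => Submodule.smul_mem_smul hi trivial
    letI := hM.module
    exact hM.isSemisimpleModule_iff.mp inferInstance
  haveI : IsSemisimpleModule A (W ⧸ JW) := hss W
  haveI : IsSemisimpleModule A (A ⧸ JA) := hss A
  have hq : ∀ (M : Type v) [AddCommGroup M] [Module A M] (S : Type v) [AddCommGroup S] [Module A S]
      [Module k S] [IsScalarTower k A S], IsSimpleModule A S → h k A (M ⧸ (J • ⊤ : Submodule A M)) S = h k A M S := by
    intro M _ _ S _ _ _ _ hS
    let E : (M ⧸ (J • ⊤ : Submodule A M) →ₗ[A] S) ≃ₗ[k] (M →ₗ[A] S) :=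
      { toFun := fun f => f ∘ₗ Submodule.mkQ _
        invFun := fun f => Submodule.liftQ _ f (Submodule.smul_le.mpr fun a ha x _ => by
          rw [LinearMap.mem_ker, map_smul]
          exact Module.mem_annihilator.mp (IsSemisimpleModule.jacobson_le_annihilator A S ha) (f x))
        map_add' := fun f g => rfl
        map_smul' := fun r f => rfl
        left_inv := fun f => Submodule.linearMap_qext _ rfl
        right_inv := fun f => rfl }
    exact E.finrank_eq
  obtain ⟨g⟩ := nonempty_linearEquiv_of_h_eq (k := k) _ (A ⧸ JA) (W ⧸ JW) rfl fun S _ _ _ _ _ hS => by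
    rw [hq A S hS, hq W S hS]
    have h1 := h_congr (k := k) (S := S) e
    rw [h_pi, h_pi] at h1
    exact (Nat.eq_of_mul_eq_mul_left Fintype.card_pos h1).symm
  obtain ⟨w, hw⟩ := Submodule.Quotient.mk_surjective _ (g (Submodule.Quotient.mk 1))
  refine ⟨w, ?_⟩
  have h0 : (⊤ : Submodule A W) ≤ Submodule.span A {w} ⊔ J • ⊤ := by
    intro x _
    obtain ⟨y, hy⟩ := Submodule.Quotient.mk_surjective _ (g.symm (Submodule.Quotient.mk x))
    refine Submodule.mem_sup.mpr ⟨y • w, Submodule.smul_mem _ _ (Submodule.mem_span_singleton_self w),
      x - y • w, ?_, add_sub_cancel _ _⟩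
    have key : Submodule.Quotient.mk (p := JW) (y • w) = Submodule.Quotient.mk x := by
      calc Submodule.Quotient.mk (p := JW) (y • w) = g (y • Submodule.Quotient.mk 1) := by
            rw [map_smul, ← hw]; rfl
        _ = g (Submodule.Quotient.mk y) := by rw [← Submodule.Quotient.mk_smul]; congr 2; exact mul_one y
        _ = Submodule.Quotient.mk x := by rw [hy, g.apply_symm_apply]
    exact (Submodule.Quotient.eq JW).mp key.symm
  have hn : ∀ n : ℕ, (⊤ : Submodule A W) ≤ Submodule.span A {w} ⊔ (J ^ n) • ⊤ := by
    intro n
    induction n with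
    | zero => rw [Submodule.pow_zero, Submodule.one_smul]; exact le_sup_right
    | succ n ih =>
      refine h0.trans (sup_le le_sup_left ?_)
      calc J • (⊤ : Submodule A W) ≤ J • (Submodule.span A {w} ⊔ (J ^ n) • ⊤) := Submodule.smul_mono le_rfl ih
        _ = J • Submodule.span A {w} ⊔ J • ((J ^ n) • ⊤) := Submodule.smul_sup _ _ _
        _ ≤ _ := sup_le (Submodule.smul_le_right.trans le_sup_left)
            (by rw [← Submodule.smul_assoc, smul_eq_mul, ← Ideal.IsTwoSided.pow_succ]; exact le_sup_right)
  obtain ⟨n, hn0⟩ := hJ
  have := hn n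
  rw [hn0] at this
  simpa using this

/-- Universe-polymorphic version of `exists_generator`. -/
theorem exists_generator' [FiniteDimensional k A] {ι : Type} [Fintype ι] [Nonempty ι] {W : Type w}
    [AddCommGroup W] [Module A W] [Module k W] [IsScalarTower k A W] [FiniteDimensional k W]
    (e : (ι → W) ≃ₗ[A] (ι → A)) : ∃ w : W, Submodule.span A {w} = ⊤ := by
  classical
  obtain ⟨i⟩ := ‹Nonempty ι›
  let f : W →ₗ[A] (ι → A) := e.toLinearMap ∘ₗ LinearMap.single A (fun _ : ι => W) i
  have hf : Function.Injective f := fun x y hxy => by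
    simpa using congrFun (e.injective hxy) i
  let E : W ≃ₗ[A] LinearMap.range f := LinearEquiv.ofInjective f hf
  haveI : FiniteDimensional k (LinearMap.range f) := Module.Finite.equiv (E.restrictScalars k)
  obtain ⟨w, hw⟩ := exists_generator (k := k) ((LinearEquiv.piCongrRight fun _ : ι => E.symm).trans e)
  refine ⟨E.symm w, ?_⟩
  have := congrArg (Submodule.map E.symm.toLinearMap) hw
  rw [Submodule.map_span, Set.image_singleton, Submodule.map_top, LinearEquiv.range] at this
  exact this

end Groth.L11.ModCancel
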